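import Cfsg.Agent.ChevalleyStructure.E6Min.Torus

/-!
# `D₅ T₁ ≤ E₆` on the 27-dimensional module: Clifford relations (helper512, for S1920)

The 27 coordinates split as `1 + 10 + 16` (`ty x = 0, 2, 1`); `cr v s` is the product with
`T3 v s w = ∑ x, cr v s x * w x`; `til` the duality of the 10-dimensional part, `BB u w = T3 e₀ u w` its form.

* `cliff` : `u × (w~ × y) + w × (u~ × y) = BB u w • y` for `u, w` in the 10-dimensional, `y` in the 16-dimensional part.
-/

set_option autoImplicit false

namespace Cfsg.Agent.H512.DFive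

open Cfsg Cfsg.Lie Matrix
open Cfsg.Agent.ChevalleyStructure.E6Min Cfsg.Agent.ChevalleyStructure.E6Min.Tables
  Cfsg.Agent.ChevalleyStructure.E6Min.Basic Cfsg.Agent.ChevalleyStructure.E6Min.Forms
  Cfsg.Agent.ChevalleyStructure.E6Min.Inv Cfsg.Agent.ChevalleyStructure.E6Min.Elim

/-- the first weight -/
def i0 : I27 := dec 0

/-- type of a coordinate: `0` the first weight, `2` the 10-dimensional part, `1` the 16-dimensional part -/
def ty (x : I27) : ℕ := relN 0 (code x)

/-- the opposite coordinate in the 10-dimensional part -/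
def opp (x : I27) : I27 := dec (thN 0 (code x))

/-- its sign -/
def sgm (x : I27) : ℤ := tsN (tnN 0 (code x))

theorem code_i0 : code i0 = 0 := code_dec (by norm_num)

theorem ty_eq (x : I27) : ty x = rel i0 x := by unfold ty rel; rw [code_i0]

theorem opp_eq (x : I27) : opp x = th i0 x := by unfold opp th; rw [code_i0]

theorem ty_cases (x : I27) : (x = i0 ∧ ty x = 0) ∨ ty x = 1 ∨ ty x = 2 := by
  rcases rel_cases i0 x with h | h | h
  · left
    refine ⟨h.symm, ?_⟩
    rw [ty_eq, rel_eq_zero_iff, h]
  · right; left; rw [ty_eq, h]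
  · right; right; rw [ty_eq, h]

theorem ty_i0 : ty i0 = 0 := by rw [ty_eq, rel_eq_zero_iff]

theorem tab_opp : allLt 27 (fun k => !(relN 0 k == 2) || (Nat.blt (thN 0 k) 27 && (relN 0 (thN 0 k) == 2) &&
    (thN 0 (thN 0 k) == k) && (tsN (tnN 0 (thN 0 k)) == tsN (tnN 0 k)) && ((tsN (tnN 0 k)) * (tsN (tnN 0 k)) == 1) &&
    !(thN 0 k == k))) = true := by
  decide +kernel

theorem opp_spec {x : I27} (h : ty x = 2) : ty (opp x) = 2 ∧ opp (opp x) = x ∧ sgm (opp x) = sgm x ∧
    sgm x * sgm x = 1 ∧ opp x ≠ x := by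
  have h1 := allLt_spec tab_opp _ (code_lt x)
  simp only [Bool.or_eq_true, Bool.and_eq_true, Nat.blt_eq, beq_iff_eq, Bool.not_eq_true', beq_eq_false_iff_ne] at h1
  rcases h1 with h1 | h1
  · exact absurd h h1
  · obtain ⟨⟨⟨⟨⟨h1, h2⟩, h3⟩, h4⟩, h5⟩, h6⟩ := h1
    have hc : code (opp x) = thN 0 (code x) := code_dec h1
    refine ⟨?_, ?_, ?_, h5, ?_⟩
    · unfold ty; rw [hc]; exact h2
    · unfold opp
      rw [show code (dec (thN 0 (code x))) = thN 0 (code x) from code_dec h1, h3, dec_code]
    · unfold sgm; rw [hc]; exact h4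
    · intro h7
      apply h6
      rw [← hc, h7]

variable {F : Type*} [Field F]

/-! ### the product -/

theorem T3_add_left (u u' v w : I27 → F) : T3 (u + u') v w = T3 u v w + T3 u' v w := by
  unfold T3
  rw [← Finset.sum_add_distrib]
  refine Finset.sum_congr rfl fun n _ => ?_
  simp only [Pi.add_apply]
  ring

/-- the product -/
def cr (v s : I27 → F) : I27 → F := fun x => T3 v s (e F x)

theorem cr_comm (v s : I27 → F) : cr v s = cr s v := funext fun _ => T3_swap _ _ _

theorem cr_add_left (v v' s : I27 → F) : cr (v + v') s = cr v s + cr v' s := funext fun _ => T3_add_left _ _ _ _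

theorem cr_smul_left (c : F) (v s : I27 → F) : cr (c • v) s = c • cr v s := funext fun _ => T3_smul_left _ _ _ _

theorem cr_add_right (v s s' : I27 → F) : cr v (s + s') = cr v s + cr v s' := by
  rw [cr_comm, cr_add_left, cr_comm s, cr_comm s']

theorem cr_smul_right (c : F) (v s : I27 → F) : cr v (c • s) = c • cr v s := by
  rw [cr_comm, cr_smul_left, cr_comm s]

theorem cr_zero_left (s : I27 → F) : cr 0 s = 0 := by
  have := cr_smul_left (0 : F) 0 s
  rwa [zero_smul, zero_smul] at this

theorem cr_zero_right (s : I27 → F) : cr s 0 = 0 := by rw [cr_comm, cr_zero_left]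

theorem T3_eq (u v w : I27 → F) : T3 u v w = cr u v ⬝ᵥ w := by
  have h1 : w = ∑ x, w x • e F x := by
    funext y
    rw [Finset.sum_apply, Finset.sum_eq_single y]
    · simp [e_apply]
    · intro x _ hxy
      simp [e_apply, Ne.symm hxy]
    · intro h; exact absurd (Finset.mem_univ _) h
  have h2 : T3 u v w = T3L u v w := rfl
  rw [h2]
  conv_lhs => rw [h1, map_sum]
  unfold dotProduct
  refine Finset.sum_congr rfl fun x _ => ?_
  rw [map_smul, smul_eq_mul, mul_comm]
  rfl

theorem T3_rot (u v w : I27 → F) : T3 u v w = T3 v w u := by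
  rw [T3_swap u v w, T3_symm v u w]

theorem cr_basis_zero {k x : I27} (h : rel k x ≠ 2) : cr (e F k) (e F x) = 0 := by
  funext y
  show T3 (e F k) (e F x) (e F y) = 0
  rw [T3_symm]
  exact T3_basis_eq_zero h _

theorem cr_basis {k x : I27} (h : rel k x = 2) :
    cr (e F k) (e F x) = ((tsN (tn k x) : ℤ) : F) • e F (th k x) := by
  funext y
  show T3 (e F k) (e F x) (e F y) = _
  rw [T3_symm, T3_basis h, Pi.smul_apply, smul_eq_mul, e_apply, e_apply]
  congr 1
  exact if_congr eq_comm rfl rfl

/-! ### the parts -/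

/-- the 10-dimensional part -/
def p10 (v : I27 → F) : I27 → F := fun x => if ty x = 2 then v x else 0

/-- the 16-dimensional part -/
def p16 (v : I27 → F) : I27 → F := fun x => if ty x = 1 then v x else 0

/-- the duality on the 10-dimensional part -/
def til (v : I27 → F) : I27 → F := fun x => if ty x = 2 then ((sgm x : ℤ) : F) * v (opp x) else 0

/-- the form on the 10-dimensional part -/
def BB (u w : I27 → F) : F := til u ⬝ᵥ w

theorem p10_add (u v : I27 → F) : p10 (u + v) = p10 u + p10 v := by
  funext x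
  simp only [p10, Pi.add_apply]
  split_ifs
  · rfl
  · rw [add_zero]

theorem p10_smul (c : F) (v : I27 → F) : p10 (c • v) = c • p10 v := by
  funext x
  simp only [p10, Pi.smul_apply, smul_eq_mul]
  split_ifs
  · rfl
  · rw [mul_zero]

theorem p16_add (u v : I27 → F) : p16 (u + v) = p16 u + p16 v := by
  funext x
  simp only [p16, Pi.add_apply]
  split_ifs
  · rfl
  · rw [add_zero]

theorem p16_smul (c : F) (v : I27 → F) : p16 (c • v) = c • p16 v := by
  funext x
  simp only [p16, Pi.smul_apply, smul_eq_mul]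
  split_ifs
  · rfl
  · rw [mul_zero]

theorem til_add (u v : I27 → F) : til (u + v) = til u + til v := by
  funext x
  simp only [til, Pi.add_apply]
  split_ifs
  · rw [mul_add]
  · rw [add_zero]

theorem til_smul (c : F) (v : I27 → F) : til (c • v) = c • til v := by
  funext x
  simp only [til, Pi.smul_apply, smul_eq_mul]
  split_ifs
  · ring
  · rw [mul_zero]

theorem p10_p10 (v : I27 → F) : p10 (p10 v) = p10 v := by
  funext x
  simp only [p10]
  split_ifs <;> rfl

theorem p16_p16 (v : I27 → F) : p16 (p16 v) = p16 v := by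
  funext x
  simp only [p16]
  split_ifs <;> rfl

theorem p10_til (v : I27 → F) : p10 (til v) = til v := by
  funext x
  simp only [p10, til]
  split_ifs <;> rfl

theorem til_p10 (v : I27 → F) : til (p10 v) = til v := by
  funext x
  simp only [p10, til]
  split_ifs with h1 h2
  · rfl
  · exact absurd (opp_spec h1).1 h2
  · rfl

theorem til_til (v : I27 → F) : til (til v) = p10 v := by
  funext x
  simp only [p10, til]
  split_ifs with h1 h2
  · obtain ⟨-, h3, h4, h5, -⟩ := opp_spec h1
    rw [h3, h4, ← mul_assoc, ← Int.cast_mul, h5, Int.cast_one, one_mul]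
  · exact absurd (opp_spec h1).1 h2
  · rfl

theorem decomp (v : I27 → F) : v = v i0 • e F i0 + p10 v + p16 v := by
  funext x
  simp only [Pi.add_apply, Pi.smul_apply, smul_eq_mul, e_apply, p10, p16]
  rcases ty_cases x with ⟨h, h1⟩ | h | h
  · rw [h, ty_i0]; simp
  · have : x ≠ i0 := by rintro rfl; rw [ty_i0] at h; omega
    simp [h, this]
  · have : x ≠ i0 := by rintro rfl; rw [ty_i0] at h; omega
    simp [h, this]

theorem p10_e (k : I27) : p10 (e F k) = if ty k = 2 then e F k else 0 := by
  funext x
  simp only [p10, e_apply]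
  by_cases h : x = k
  · subst h
    by_cases h2 : ty x = 2 <;> simp [e_apply, h2]
  · split_ifs <;> simp [e_apply, h]

theorem p16_e (k : I27) : p16 (e F k) = if ty k = 1 then e F k else 0 := by
  funext x
  simp only [p16, e_apply]
  by_cases h : x = k
  · subst h
    by_cases h2 : ty x = 1 <;> simp [e_apply, h2]
  · split_ifs <;> simp [e_apply, h]

theorem til_e {k : I27} (hk : ty k = 2) : til (e F k) = ((sgm k : ℤ) : F) • e F (opp k) := by
  obtain ⟨h1, h2, h3, h4, h5⟩ := opp_spec hk
  funext x
  simp only [til, Pi.smul_apply, smul_eq_mul, e_apply]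
  by_cases hx : x = opp k
  · subst hx
    rw [if_pos h1, h2, h3, if_pos rfl, if_pos rfl]
  · rw [if_neg hx, mul_zero]
    split_ifs with h6 h7
    · exfalso
      apply hx
      rw [← h7, (opp_spec h6).2.1]
    · rw [mul_zero]
    · rfl

theorem til_e_zero {k : I27} (hk : ty k ≠ 2) : til (e F k) = 0 := by
  funext x
  simp only [til, e_apply, Pi.zero_apply]
  split_ifs with h6 h7
  · exfalso
    rw [← h7] at hk
    exact hk (opp_spec h6).1
  · rw [mul_zero]
  · rfl

/-- a linear map vanishing on the basis is zero -/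
theorem lin_zero {f : (I27 → F) → (I27 → F)} (hadd : ∀ u v, f (u + v) = f u + f v) (hsmul : ∀ (c : F) v, f (c • v) = c • f v)
    (h : ∀ x, f (e F x) = 0) (v : I27 → F) : f v = 0 := by
  let f' : (I27 → F) →ₗ[F] (I27 → F) := { toFun := f, map_add' := hadd, map_smul' := hsmul }
  have h1 : f' = 0 := by
    refine LinearMap.pi_ext' fun x => LinearMap.ext_ring ?_
    exact h x
  have h2 := LinearMap.congr_fun h1 v
  exact h2

/-! ### the relations -/

/-- the value of `e_k × (e_l~ × e_x)`: coefficient -/
def fc (k l x : ℕ) : ℤ :=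
  if relN (thN 0 l) x = 2 ∧ relN k (thN (thN 0 l) x) = 2 then
    tsN (tnN 0 l) * (tsN (tnN (thN 0 l) x) * tsN (tnN k (thN (thN 0 l) x))) else 0

/-- and place -/
def fp (k l x : ℕ) : ℕ := thN k (thN (thN 0 l) x)

theorem tab_cliff : (allLt 27 fun k => !(relN 0 k == 2) || allLt 27 fun l => !(relN 0 l == 2) || allLt 27 fun x =>
    !(relN 0 x == 1) || (if l = thN 0 k then
      ((fc k l x == 0) || (fp k l x == x)) && ((fc l k x == 0) || (fp l k x == x)) &&
        (fc k l x + fc l k x == tsN (tnN 0 k))
      else ((fc k l x == 0) || (fp k l x == fp l k x)) && (fc k l x + fc l k x == 0))) = true := by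
  decide +kernel

theorem thN_lt_all : (allLt 27 fun x => allLt 27 fun y => !(relN x y == 2) || Nat.blt (thN x y) 27) = true := by
  decide +kernel

theorem thN_lt {x y : ℕ} (hx : x < 27) (hy : y < 27) (h : relN x y = 2) : thN x y < 27 := by
  have := allLt_spec (allLt_spec thN_lt_all _ hx) _ hy
  simp only [Bool.or_eq_true, Nat.blt_eq, Bool.not_eq_true', beq_eq_false_iff_ne] at this
  exact this.resolve_left fun h1 => h1 h

theorem code_th {x y : I27} (h : rel x y = 2) : code (th x y) = thN (code x) (code y) :=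
  code_dec (thN_lt (code_lt x) (code_lt y) h)

theorem cr_cr {k l x : I27} (hl : ty l = 2) :
    cr (e F k) (cr (til (e F l)) (e F x)) = ((fc (code k) (code l) (code x) : ℤ) : F) •
      e F (dec (fp (code k) (code l) (code x))) := by
  have ho : code (opp l) = thN 0 (code l) := by
    have := opp_spec hl
    rw [opp_eq]
    rw [code_th (by rw [← ty_eq]; exact hl), code_i0]
  rw [til_e hl, cr_smul_left, cr_smul_right]
  unfold fc fp
  by_cases h1 : rel (opp l) x = 2
  · have h1' : relN (thN 0 (code l)) (code x) = 2 := by rw [← ho]; exact h1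
    have hc : code (th (opp l) x) = thN (thN 0 (code l)) (code x) := by rw [code_th h1, ho]
    rw [cr_basis h1, cr_smul_right]
    by_cases h2 : rel k (th (opp l) x) = 2
    · have h2' : relN (code k) (thN (thN 0 (code l)) (code x)) = 2 := by rw [← hc]; exact h2
      rw [cr_basis h2, if_pos ⟨h1', h2'⟩, smul_smul, smul_smul]
      have e1 : tsN (tn (opp l) x) = tsN (tnN (thN 0 (code l)) (code x)) := by unfold tn; rw [ho]
      have e2 : tsN (tn k (th (opp l) x)) = tsN (tnN (code k) (thN (thN 0 (code l)) (code x))) := by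
        unfold tn; rw [hc]
      have e3 : th k (th (opp l) x) = dec (thN (code k) (thN (thN 0 (code l)) (code x))) := by
        unfold th
        rw [show code (dec (thN (code (opp l)) (code x))) = thN (thN 0 (code l)) (code x) by
          rw [← hc]; rfl]
      rw [e1, e2, e3]
      congr 1
      unfold sgm
      push_cast
      ring
    · have h2' : ¬ relN (code k) (thN (thN 0 (code l)) (code x)) = 2 := by rw [← hc]; exact h2
      rw [cr_basis_zero h2, if_neg fun h => h2' h.2]
      simp
  · have h1' : ¬ relN (thN 0 (code l)) (code x) = 2 := by rw [← ho]; exact h1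
    rw [cr_basis_zero h1, cr_zero_right, if_neg fun h => h1' h.1]
    simp

theorem BB_e {k l : I27} (hk : ty k = 2) : BB (e F k) (e F l) = if l = opp k then ((sgm k : ℤ) : F) else 0 := by
  unfold BB
  rw [til_e hk, smul_dotProduct]
  unfold e
  rw [single_dotProduct, one_mul, Pi.single_apply, smul_eq_mul]
  simp only [eq_comm (a := opp k)]
  split_ifs <;> simp

theorem cliff_basis {k l x : I27} (hk : ty k = 2) (hl : ty l = 2) (hx : ty x = 1) :
    cr (e F k) (cr (til (e F l)) (e F x)) + cr (e F l) (cr (til (e F k)) (e F x)) = BB (e F k) (e F l) • e F x := by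
  rw [cr_cr hl, cr_cr hk, BB_e hk]
  have h1 := allLt_spec tab_cliff _ (code_lt k)
  simp only [Bool.or_eq_true, Bool.not_eq_true', beq_eq_false_iff_ne] at h1
  have h2 := allLt_spec (h1.resolve_left fun h => h hk) _ (code_lt l)
  simp only [Bool.or_eq_true, Bool.not_eq_true', beq_eq_false_iff_ne] at h2
  have h3 := allLt_spec (h2.resolve_left fun h => h hl) _ (code_lt x)
  simp only [Bool.or_eq_true, Bool.not_eq_true', beq_eq_false_iff_ne] at h3
  have h4 := h3.resolve_left fun h => h hx
  have hlk : l = opp k ↔ code l = thN 0 (code k) := by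
    have ho : code (opp k) = thN 0 (code k) := by
      rw [opp_eq, code_th (by rw [← ty_eq]; exact hk), code_i0]
    rw [← ho, code_eq_iff]
  by_cases h5 : l = opp k
  · have h6 := hlk.1 h5
    rw [if_pos h6] at h4
    simp only [Bool.and_eq_true, Bool.or_eq_true, beq_iff_eq] at h4
    obtain ⟨⟨h7, h8⟩, h9⟩ := h4
    rw [if_pos h5]
    have e1 : ((fc (code k) (code l) (code x) : ℤ) : F) • e F (dec (fp (code k) (code l) (code x))) =
        ((fc (code k) (code l) (code x) : ℤ) : F) • e F x := by
      rcases h7 with h7 | h7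
      · rw [h7]; simp
      · rw [h7, dec_code]
    have e2 : ((fc (code l) (code k) (code x) : ℤ) : F) • e F (dec (fp (code l) (code k) (code x))) =
        ((fc (code l) (code k) (code x) : ℤ) : F) • e F x := by
      rcases h8 with h8 | h8
      · rw [h8]; simp
      · rw [h8, dec_code]
    rw [e1, e2, ← add_smul, ← Int.cast_add, h9]
    rfl
  · have h6 : ¬ code l = thN 0 (code k) := fun h => h5 (hlk.2 h)
    rw [if_neg h6] at h4
    simp only [Bool.and_eq_true, Bool.or_eq_true, beq_iff_eq] at h4
    obtain ⟨h7, h9⟩ := h4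
    rw [if_neg h5, zero_smul]
    rcases h7 with h7 | h7
    · have h8 : fc (code l) (code k) (code x) = 0 := by rw [h7, zero_add] at h9; exact h9
      rw [h7, h8]; simp
    · rw [h7, ← add_smul, ← Int.cast_add, h9]; simp

theorem BB_add_left (u u' w : I27 → F) : BB (u + u') w = BB u w + BB u' w := by
  unfold BB; rw [til_add, add_dotProduct]

theorem BB_smul_left (c : F) (u w : I27 → F) : BB (c • u) w = c * BB u w := by
  unfold BB; rw [til_smul, smul_dotProduct, smul_eq_mul]

theorem BB_add_right (u w w' : I27 → F) : BB u (w + w') = BB u w + BB u w' := by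
  unfold BB; rw [dotProduct_add]

theorem BB_smul_right (c : F) (u w : I27 → F) : BB u (c • w) = c * BB u w := by
  unfold BB; rw [dotProduct_smul, smul_eq_mul]

theorem BB_zero_left (w : I27 → F) : BB 0 w = 0 := by
  have := BB_smul_left (0 : F) 0 w
  rwa [zero_smul, zero_mul] at this

/-- **The Clifford relations.** -/
theorem cliff' (u w y : I27 → F) : cr (p10 u) (cr (til w) (p16 y)) + cr (p10 w) (cr (til u) (p16 y)) -
    BB (p10 u) (p10 w) • p16 y = 0 := by
  refine lin_zero (f := fun u => cr (p10 u) (cr (til w) (p16 y)) + cr (p10 w) (cr (til u) (p16 y)) -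
    BB (p10 u) (p10 w) • p16 y) (fun a b => ?_) (fun c a => ?_) (fun k => ?_) u
  · simp only [p10_add, til_add, cr_add_left, cr_add_right, BB_add_left, add_smul]
    abel
  · simp only [p10_smul, til_smul, cr_smul_left, cr_smul_right, BB_smul_left, mul_smul, smul_sub, smul_add]
  by_cases hk : ty k = 2
  swap
  · rw [p10_e, if_neg hk, til_e_zero hk, cr_zero_left, cr_zero_left, cr_zero_right, BB_zero_left]
    simp
  rw [p10_e, if_pos hk]
  refine lin_zero (f := fun w => cr (e F k) (cr (til w) (p16 y)) + cr (p10 w) (cr (til (e F k)) (p16 y)) -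
    BB (e F k) (p10 w) • p16 y) (fun a b => ?_) (fun c a => ?_) (fun l => ?_) w
  · simp only [p10_add, til_add, cr_add_left, cr_add_right, BB_add_right, add_smul]
    abel
  · simp only [p10_smul, til_smul, cr_smul_left, cr_smul_right, BB_smul_right, mul_smul, smul_sub, smul_add]
  by_cases hl : ty l = 2
  swap
  · rw [p10_e, if_neg hl, til_e_zero hl, cr_zero_left, cr_zero_left, cr_zero_right]
    unfold BB
    simp
  rw [p10_e, if_pos hl]
  refine lin_zero (f := fun y => cr (e F k) (cr (til (e F l)) (p16 y)) + cr (e F l) (cr (til (e F k)) (p16 y)) -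
    BB (e F k) (e F l) • p16 y) (fun a b => ?_) (fun c a => ?_) (fun x => ?_) y
  · simp only [p16_add, cr_add_right, smul_add]
    abel
  · simp only [p16_smul, cr_smul_right, smul_sub, smul_add, smul_comm c]
  by_cases hx : ty x = 1
  swap
  · rw [p16_e, if_neg hx, cr_zero_right, cr_zero_right, cr_zero_right, cr_zero_right]
    simp
  rw [p16_e, if_pos hx, cliff_basis hk hl hx, sub_self]

theorem BB_til (u w : I27 → F) : BB (til u) (til w) = BB u w := by
  unfold BB
  rw [til_til]
  unfold dotProduct
  have h1 : ∀ x, p10 u x * til w x = if ty x = 2 then ((sgm x : ℤ) : F) * (u x * w (opp x)) else 0 := by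
    intro x
    simp only [p10, til]
    split_ifs
    · ring
    · rw [zero_mul]
  have h2 : ∀ x, til u x * w x = if ty x = 2 then ((sgm x : ℤ) : F) * (u (opp x) * w x) else 0 := by
    intro x
    simp only [til]
    split_ifs
    · ring
    · rw [zero_mul]
  rw [Finset.sum_congr rfl fun x _ => h1 x, Finset.sum_congr rfl fun x _ => h2 x, ← Finset.sum_filter,
    ← Finset.sum_filter]
  refine Finset.sum_bij (fun x _ => opp x) ?_ ?_ ?_ ?_
  · intro x hx
    rw [Finset.mem_filter] at hx ⊢
    exact ⟨Finset.mem_univ _, (opp_spec hx.2).1⟩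
  · intro x hx y hy h
    rw [Finset.mem_filter] at hx hy
    rw [← (opp_spec hx.2).2.1, h, (opp_spec hy.2).2.1]
  · intro y hy
    rw [Finset.mem_filter] at hy
    exact ⟨opp y, by rw [Finset.mem_filter]; exact ⟨Finset.mem_univ _, (opp_spec hy.2).1⟩, (opp_spec hy.2).2.1⟩
  · intro x hx
    rw [Finset.mem_filter] at hx
    rw [(opp_spec hx.2).2.1, (opp_spec hx.2).2.2.1]

theorem BB_symm (u w : I27 → F) : BB u w = BB w u := by
  unfold BB dotProduct
  have h2 : ∀ (u w : I27 → F) x, til u x * w x = if ty x = 2 then ((sgm x : ℤ) : F) * (u (opp x) * w x) else 0 := by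
    intro u w x
    simp only [til]
    split_ifs
    · ring
    · rw [zero_mul]
  rw [Finset.sum_congr rfl fun x _ => h2 u w x, Finset.sum_congr rfl fun x _ => h2 w u x, ← Finset.sum_filter,
    ← Finset.sum_filter]
  refine Finset.sum_bij (fun x _ => opp x) ?_ ?_ ?_ ?_
  · intro x hx
    rw [Finset.mem_filter] at hx ⊢
    exact ⟨Finset.mem_univ _, (opp_spec hx.2).1⟩
  · intro x hx y hy h
    rw [Finset.mem_filter] at hx hy
    rw [← (opp_spec hx.2).2.1, h, (opp_spec hy.2).2.1]
  · intro y hy
    rw [Finset.mem_filter] at hy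
    exact ⟨opp y, by rw [Finset.mem_filter]; exact ⟨Finset.mem_univ _, (opp_spec hy.2).1⟩, (opp_spec hy.2).2.1⟩
  · intro x hx
    rw [Finset.mem_filter] at hx
    rw [(opp_spec hx.2).2.1, (opp_spec hx.2).2.2.1, mul_comm (w x)]

theorem BB_p10 (u w : I27 → F) : BB (p10 u) (p10 w) = BB u w := by
  have h : ∀ u w : I27 → F, BB (p10 u) w = BB u w := fun u w => by unfold BB; rw [til_p10]
  rw [h, BB_symm, h, BB_symm]

/-- `u × (w~ × y) + w × (u~ × y) = B(u, w) y` -/
theorem cliff {u w y : I27 → F} (hu : p10 u = u) (hw : p10 w = w) (hy : p16 y = y) :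
    cr u (cr (til w) y) + cr w (cr (til u) y) = BB u w • y := by
  have := cliff' u w y
  rw [hu, hw, hy] at this
  exact sub_eq_zero.1 this

/-- `u~ × (w × y) + w~ × (u × y) = B(u, w) y` -/
theorem cliff_til {u w y : I27 → F} (hu : p10 u = u) (hw : p10 w = w) (hy : p16 y = y) :
    cr (til u) (cr w y) + cr (til w) (cr u y) = BB u w • y := by
  have := cliff (p10_til u) (p10_til w) hy
  rwa [til_til, til_til, hu, hw, BB_til] at this

end Cfsg.Agent.H512.DFive
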