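import Cfsg.Agent.H512.DFive.Cliff

/-!
# `D₅ T₁ ≤ E₆` on the 27-dimensional module (helper512, for S1920)

* `two_cubicT` : `2 T(x) = x₀ B(x, x) + T3(x₁₀, x₁₆, x₁₆)`;
* `exists_lift` : a product of two reflections of the 10-dimensional part with `Q(u) Q(v)` a square is induced by an
  isometry of `T` commuting with the involution `z0`;
* `act_e`, `act_ten` : an isometry commuting with `z0` acts by similarities on the 10-dimensional part;
* `ker_ten` : trivially only for `1` and `z0`.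
-/

set_option autoImplicit false

namespace Cfsg.Agent.H512.DFive

open Cfsg Cfsg.Lie Matrix
open Cfsg.Agent.ChevalleyStructure.E6Min Cfsg.Agent.ChevalleyStructure.E6Min.Tables
  Cfsg.Agent.ChevalleyStructure.E6Min.Basic Cfsg.Agent.ChevalleyStructure.E6Min.Forms
  Cfsg.Agent.ChevalleyStructure.E6Min.Inv Cfsg.Agent.ChevalleyStructure.E6Min.Elim

variable {F : Type*} [Field F]

/-! ### the cubic form -/

theorem cr_e0 (u : I27 → F) : cr (e F i0) u = til u := by
  have h := lin_zero (f := fun u : I27 → F => cr (e F i0) u - til u) (fun a b => by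
    simp only [cr_add_right, til_add]; abel) (fun c a => by
    simp only [cr_smul_right, til_smul, smul_sub]) (fun k => ?_) u
  · exact sub_eq_zero.1 h
  · by_cases hk : ty k = 2
    · rw [til_e hk, cr_basis (by rw [← ty_eq]; exact hk), opp_eq]
      have : tsN (tn i0 k) = sgm k := by unfold tn sgm; rw [code_i0]
      rw [this, sub_self]
    · rw [til_e_zero hk, cr_basis_zero (by rw [← ty_eq]; exact hk), sub_self]

theorem T3_e0 (u w : I27 → F) : T3 (e F i0) u w = BB u w := by rw [T3_eq, cr_e0]; rfl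

theorem tab_types : allLt 45 (fun n => let a := relN 0 (t1N n); let b := relN 0 (t2N n); let c := relN 0 (t3N n)
    (a == 0 && b == 2 && c == 2) || (a == 2 && b == 0 && c == 2) || (a == 2 && b == 2 && c == 0) ||
    (a == 2 && b == 1 && c == 1) || (a == 1 && b == 2 && c == 1) || (a == 1 && b == 1 && c == 2)) = true := by
  decide +kernel

theorem ty_t {n : ℕ} (hn : n < 45) : ty (t1 n) = relN 0 (t1N n) ∧ ty (t2 n) = relN 0 (t2N n) ∧
    ty (t3 n) = relN 0 (t3N n) := by
  obtain ⟨h1, h2, h3, -⟩ := tri_lt hn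
  unfold ty t1 t2 t3
  rw [code_dec h1, code_dec h2, code_dec h3]
  exact ⟨rfl, rfl, rfl⟩

theorem types {n : ℕ} (hn : n < 45) :
    (ty (t1 n) = 0 ∧ ty (t2 n) = 2 ∧ ty (t3 n) = 2) ∨ (ty (t1 n) = 2 ∧ ty (t2 n) = 0 ∧ ty (t3 n) = 2) ∨
    (ty (t1 n) = 2 ∧ ty (t2 n) = 2 ∧ ty (t3 n) = 0) ∨ (ty (t1 n) = 2 ∧ ty (t2 n) = 1 ∧ ty (t3 n) = 1) ∨
    (ty (t1 n) = 1 ∧ ty (t2 n) = 2 ∧ ty (t3 n) = 1) ∨ (ty (t1 n) = 1 ∧ ty (t2 n) = 1 ∧ ty (t3 n) = 2) := by
  obtain ⟨h1, h2, h3⟩ := ty_t hn
  rw [h1, h2, h3]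
  have h := allLt_spec tab_types n hn
  simp only [Bool.or_eq_true, Bool.and_eq_true, beq_iff_eq] at h
  rcases h with ((((h | h) | h) | h) | h) | h
  · exact Or.inl ⟨h.1.1, h.1.2, h.2⟩
  · exact Or.inr (Or.inl ⟨h.1.1, h.1.2, h.2⟩)
  · exact Or.inr (Or.inr (Or.inl ⟨h.1.1, h.1.2, h.2⟩))
  · exact Or.inr (Or.inr (Or.inr (Or.inl ⟨h.1.1, h.1.2, h.2⟩)))
  · exact Or.inr (Or.inr (Or.inr (Or.inr (Or.inl ⟨h.1.1, h.1.2, h.2⟩))))
  · exact Or.inr (Or.inr (Or.inr (Or.inr (Or.inr ⟨h.1.1, h.1.2, h.2⟩))))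

/-- the component along the first weight -/
def p0 (v : I27 → F) : I27 → F := fun x => if ty x = 0 then v x else 0

theorem ty_zero {x : I27} (h : ty x = 0) : x = i0 := by
  rcases ty_cases x with ⟨h1, -⟩ | h1 | h1
  · exact h1
  · omega
  · omega

theorem p0_eq (v : I27 → F) : p0 v = v i0 • e F i0 := by
  funext x
  simp only [p0, Pi.smul_apply, smul_eq_mul, e_apply]
  by_cases h : x = i0
  · subst h; simp [ty_i0]
  · rw [if_neg (fun h1 => h (ty_zero h1)), if_neg h, mul_zero]

theorem two_cubicT (x : I27 → F) : 2 * cubicT x = x i0 * BB x x + T3 (p10 x) (p16 x) (p16 x) := by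
  have h1 : x i0 * BB x x = T3 (p0 x) (p10 x) (p10 x) := by
    rw [p0_eq, T3_smul_left, T3_e0, BB_p10]
  rw [h1, cubicT_eq_sum, T3, T3, Finset.mul_sum, ← Finset.sum_add_distrib]
  refine Finset.sum_congr rfl fun n hn => ?_
  have hn := Finset.mem_range.mp hn
  simp only [p0, p10, p16]
  rcases types hn with ⟨a, b, c⟩ | ⟨a, b, c⟩ | ⟨a, b, c⟩ | ⟨a, b, c⟩ | ⟨a, b, c⟩ | ⟨a, b, c⟩ <;>
  · rw [a, b, c]
    simp
    ring

/-! ### types of the products -/

theorem tab_prod : (allLt 27 fun x => allLt 27 fun y => !(relN x y == 2) ||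
    ((!(relN 0 x == 2) || !(relN 0 y == 1) || (relN 0 (thN x y) == 1)) &&
     (!(relN 0 x == 2) || !(relN 0 y == 2) || (relN 0 (thN x y) == 0)))) = true := by
  decide +kernel

theorem p16_cr {w s : I27 → F} (hw : p10 w = w) (hs : p16 s = s) : p16 (cr w s) = cr w s := by
  rw [← hw, ← hs]
  have h := lin_zero (f := fun w : I27 → F => p16 (cr (p10 w) (p16 s)) - cr (p10 w) (p16 s)) (fun a b => by
    simp only [p10_add, cr_add_left, p16_add]; abel) (fun c a => by
    simp only [p10_smul, cr_smul_left, p16_smul, smul_sub]) (fun k => ?_) w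
  · exact sub_eq_zero.1 h
  · show p16 (cr (p10 (e F k)) (p16 s)) - cr (p10 (e F k)) (p16 s) = 0
    by_cases hk : ty k = 2
    swap
    · rw [p10_e, if_neg hk, cr_zero_left]
      funext x
      simp [p16]
    rw [p10_e, if_pos hk]
    refine lin_zero (f := fun s : I27 → F => p16 (cr (e F k) (p16 s)) - cr (e F k) (p16 s)) (fun a b => by
      simp only [p16_add, cr_add_right]; abel) (fun c a => by
      simp only [p16_smul, cr_smul_right, smul_sub]) (fun l => ?_) s
    show p16 (cr (e F k) (p16 (e F l))) - cr (e F k) (p16 (e F l)) = 0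
    by_cases hl : ty l = 1
    swap
    · rw [p16_e, if_neg hl, cr_zero_right]
      funext x
      simp [p16]
    rw [p16_e, if_pos hl]
    by_cases h : rel k l = 2
    · have h1 := allLt_spec (allLt_spec tab_prod _ (code_lt k)) _ (code_lt l)
      simp only [Bool.or_eq_true, Bool.and_eq_true, beq_iff_eq, Bool.not_eq_true', beq_eq_false_iff_ne] at h1
      have h2 := (h1.resolve_left fun h1 => h1 h).1
      have h3 : relN 0 (thN (code k) (code l)) = 1 := by
        rcases h2 with (h2 | h2) | h2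
        · exact absurd hk h2
        · exact absurd hl h2
        · exact h2
      have h4 : ty (th k l) = 1 := by unfold ty; rw [code_th h]; exact h3
      rw [cr_basis h, p16_smul, p16_e, if_pos h4, sub_self]
    · rw [cr_basis_zero h]
      funext x
      simp [p16]

theorem tab_ten : (allLt 27 fun x => allLt 27 fun y => !(relN x y == 2) || (relN 0 x == 0) || !(relN 0 y == 2) ||
    !(relN 0 (thN x y) == 2)) = true := by
  decide +kernel

/-- the product of two vectors of the 10-dimensional part -/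
theorem cr_ten (u w : I27 → F) : cr (p10 u) (p10 w) = BB u w • e F i0 := by
  funext x
  rw [Pi.smul_apply, smul_eq_mul, e_apply]
  show T3 (p10 u) (p10 w) (e F x) = _
  rw [← T3_rot]
  by_cases hx : x = i0
  · subst hx
    rw [if_pos rfl, mul_one, T3_e0, BB_p10]
  rw [if_neg hx, mul_zero, T3_eq]
  refine Finset.sum_eq_zero fun l _ => ?_
  show T3 (e F x) (p10 u) (e F l) * p10 w l = 0
  by_cases hl : ty l = 2
  swap
  · simp [p10, hl]
  by_cases h : rel x l = 2
  · rw [T3_basis h]
    have h1 := allLt_spec (allLt_spec tab_ten _ (code_lt x)) _ (code_lt l)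
    simp only [Bool.or_eq_true, beq_iff_eq, Bool.not_eq_true', beq_eq_false_iff_ne] at h1
    have h2 : relN 0 (thN (code x) (code l)) ≠ 2 := by
      rcases h1 with ((h1 | h1) | h1) | h1
      · exact absurd h h1
      · exact absurd (ty_zero h1) hx
      · exact absurd hl h1
      · exact h1
    have h3 : ty (th x l) ≠ 2 := by unfold ty; rw [code_th h]; exact h2
    simp [p10, h3]
  · rw [T3_basis_eq_zero h, zero_mul]

/-! ### the lifts of products of two reflections -/

/-- the reflection -/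
def rf (u w : I27 → F) : I27 → F := w - (2 * BB u w / BB u u) • u

theorem p10_sub (u v : I27 → F) : p10 (u - v) = p10 u - p10 v := by
  rw [sub_eq_add_neg, ← neg_one_smul F v, p10_add, p10_smul, neg_one_smul, ← sub_eq_add_neg]

theorem p10_rf {u w : I27 → F} (hu : p10 u = u) (hw : p10 w = w) : p10 (rf u w) = rf u w := by
  unfold rf
  rw [p10_sub, p10_smul, hu, hw]

theorem rf_add (u w w' : I27 → F) : rf u (w + w') = rf u w + rf u w' := by
  unfold rf
  rw [BB_add_right, mul_add, add_div, add_smul]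
  abel

theorem rf_smul (c : F) (u w : I27 → F) : rf u (c • w) = c • rf u w := by
  unfold rf
  rw [BB_smul_right, smul_sub, smul_smul]
  congr 2
  ring

theorem BB_sub_right (u w w' : I27 → F) : BB u (w - w') = BB u w - BB u w' := by
  rw [sub_eq_add_neg, ← neg_one_smul F w', BB_add_right, BB_smul_right]; ring

theorem BB_sub_left (u w w' : I27 → F) : BB (w - w') u = BB w u - BB w' u := by
  rw [BB_symm, BB_sub_right, BB_symm u, BB_symm u]

theorem BB_rf {u : I27 → F} (hu : BB u u ≠ 0) (w w' : I27 → F) : BB (rf u w) (rf u w') = BB w w' := by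
  unfold rf
  rw [BB_sub_left, BB_sub_right, BB_sub_right, BB_smul_left, BB_smul_right, BB_smul_left, BB_smul_right, BB_symm w u]
  field_simp
  ring

theorem rf_rf {u : I27 → F} (hu : BB u u ≠ 0) (w : I27 → F) : rf u (rf u w) = w := by
  have h : BB u (rf u w) = - BB u w := by
    unfold rf
    rw [BB_sub_right, BB_smul_right]
    field_simp
    ring
  have h1 : rf u (rf u w) = rf u w - (2 * BB u (rf u w) / BB u u) • u := rfl
  rw [h1, h]
  unfold rf
  rw [sub_sub, ← add_smul]
  have : 2 * BB u w / BB u u + 2 * -BB u w / BB u u = 0 := by field_simp; ring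
  rw [this, zero_smul, sub_zero]

theorem til_sub (u v : I27 → F) : til (u - v) = til u - til v := by
  rw [sub_eq_add_neg, ← neg_one_smul F v, til_add, til_smul, neg_one_smul, ← sub_eq_add_neg]

theorem cr_sub_left (u v s : I27 → F) : cr (u - v) s = cr u s - cr v s := by
  rw [sub_eq_add_neg, ← neg_one_smul F v, cr_add_left, cr_smul_left, neg_one_smul, ← sub_eq_add_neg]

theorem cr_self (h2 : (2 : F) ≠ 0) {u y : I27 → F} (hu : p10 u = u) (hy : p16 y = y) :
    cr u (cr (til u) y) = (BB u u / 2) • y := by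
  have h := cliff hu hu hy
  rw [← two_smul F, ← eq_inv_smul_iff₀ h2, smul_smul] at h
  rw [h]
  congr 1
  ring

theorem cr_self_til (h2 : (2 : F) ≠ 0) {u y : I27 → F} (hu : p10 u = u) (hy : p16 y = y) :
    cr (til u) (cr u y) = (BB u u / 2) • y := by
  have h := cliff_til hu hu hy
  rw [← two_smul F, ← eq_inv_smul_iff₀ h2, smul_smul] at h
  rw [h]
  congr 1
  ring

theorem step1 (h2 : (2 : F) ≠ 0) {u w y : I27 → F} (hu : p10 u = u) (hw : p10 w = w) (hy : p16 y = y)
    (huu : BB u u ≠ 0) : cr (til u) (cr w (cr (til u) y)) = (-(BB u u / 2)) • cr (til (rf u w)) y := by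
  have hz : p16 (cr (til u) y) = cr (til u) y := p16_cr (p10_til u) hy
  have h := cliff_til hu hw hz
  rw [cr_self h2 hu hy, cr_smul_right] at h
  rw [eq_sub_of_add_eq h]
  unfold rf
  rw [til_sub, til_smul, cr_sub_left, cr_smul_left, smul_sub, smul_smul, neg_smul]
  have : -(BB u u / 2) * (2 * BB u w / BB u u) = - BB u w := by field_simp
  rw [this, neg_smul]
  abel

theorem step2 (h2 : (2 : F) ≠ 0) {v w s : I27 → F} (hv : p10 v = v) (hw : p10 w = w) (hs : p16 s = s)
    (hvv : BB v v ≠ 0) : cr v (cr (til w) (cr v s)) = (-(BB v v / 2)) • cr (rf v w) s := by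
  have hz : p16 (cr v s) = cr v s := p16_cr hv hs
  have h := cliff hv hw hz
  rw [cr_self_til h2 hv hs, cr_smul_right] at h
  rw [eq_sub_of_add_eq h]
  unfold rf
  rw [cr_sub_left, cr_smul_left, smul_sub, smul_smul, neg_smul]
  have : -(BB v v / 2) * (2 * BB v w / BB v v) = - BB v w := by field_simp
  rw [this, neg_smul]
  abel

/-- the cubic form on the transformed vectors -/
theorem T3_lift (h2 : (2 : F) ≠ 0) {u v w s : I27 → F} (hu : p10 u = u) (hv : p10 v = v) (hw : p10 w = w)
    (hs : p16 s = s) (huu : BB u u ≠ 0) (hvv : BB v v ≠ 0) :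
    T3 (rf u (rf v w)) (cr (til u) (cr v s)) (cr (til u) (cr v s)) = (BB u u / 2) * (BB v v / 2) * T3 w s s := by
  have hy : p16 (cr v s) = cr v s := p16_cr hv hs
  have hw'' := p10_rf hv hw
  have hw' := p10_rf hu hw''
  have h1 : T3 (rf u (rf v w)) (cr (til u) (cr v s)) (cr (til u) (cr v s)) =
      cr (til u) (cr (rf u (rf v w)) (cr (til u) (cr v s))) ⬝ᵥ cr v s := by
    rw [T3_eq, dotProduct_comm, ← T3_eq, T3_symm, T3_eq]
  rw [h1, step1 h2 hu hw' hy huu, rf_rf huu, smul_dotProduct, smul_eq_mul]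
  have h3 : cr (til (rf v w)) (cr v s) ⬝ᵥ cr v s = cr v (cr (til (rf v w)) (cr v s)) ⬝ᵥ s := by
    rw [dotProduct_comm, ← T3_eq, T3_symm, T3_eq]
  rw [h3, step2 h2 hv hw'' hs hvv, rf_rf hvv, smul_dotProduct, smul_eq_mul, T3_eq]
  ring

/-- components -/
theorem comps {t : F} {w s : I27 → F} (hw : p10 w = w) (hs : p16 s = s) :
    (t • e F i0 + w + s) i0 = t ∧ p10 (t • e F i0 + w + s) = w ∧ p16 (t • e F i0 + w + s) = s := by
  have h1 : w i0 = 0 := by rw [← hw]; simp [p10, ty_i0]
  have h2 : s i0 = 0 := by rw [← hs]; simp [p16, ty_i0]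
  have h3 : p10 s = 0 := by
    rw [← hs]; funext x; simp only [p10, p16]
    split_ifs with a b
    · omega
    · rfl
    · rfl
  have h4 : p16 w = 0 := by
    rw [← hw]; funext x; simp only [p10, p16]
    split_ifs with a b
    · omega
    · rfl
    · rfl
  refine ⟨?_, ?_, ?_⟩
  · simp [h1, h2, e_apply]
  · rw [p10_add, p10_add, p10_smul, p10_e, ty_i0, if_neg (by norm_num), hw, h3]
    simp
  · rw [p16_add, p16_add, p16_smul, p16_e, ty_i0, if_neg (by norm_num), hs, h4]
    simp

/-- the linear map -/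
def GL0 (u v : I27 → F) (c : F) : (I27 → F) →ₗ[F] (I27 → F) where
  toFun x := x i0 • e F i0 + rf u (rf v (p10 x)) + c⁻¹ • cr (til u) (cr v (p16 x))
  map_add' x y := by
    simp only [Pi.add_apply, add_smul, p10_add, rf_add, p16_add, cr_add_right, smul_add]
    abel
  map_smul' a x := by
    simp only [Pi.smul_apply, smul_eq_mul, p10_smul, rf_smul, p16_smul, cr_smul_right, smul_add, RingHom.id_apply,
      mul_smul, smul_comm c⁻¹ a]

theorem GL0_apply (u v : I27 → F) (c : F) (x : I27 → F) :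
    GL0 u v c x = x i0 • e F i0 + rf u (rf v (p10 x)) + c⁻¹ • cr (til u) (cr v (p16 x)) := rfl

theorem GL0_comp (h2 : (2 : F) ≠ 0) {u v : I27 → F} (hu : p10 u = u) (hv : p10 v = v) {c : F} (hc : c ≠ 0)
    (hcc : 4 * (c * c) = BB u u * BB v v) (x : I27 → F) : GL0 u v c (GL0 v u c x) = x := by
  have hprod : BB u u * BB v v ≠ 0 := by
    rw [← hcc, show (4 : F) = 2 * 2 by norm_num]
    exact mul_ne_zero (mul_ne_zero h2 h2) (mul_ne_zero hc hc)
  have huu := left_ne_zero_of_mul hprod
  have hvv := right_ne_zero_of_mul hprod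
  have hx16 := p16_p16 x
  have hy : p16 (cr u (p16 x)) = cr u (p16 x) := p16_cr hu hx16
  have hz : p16 (cr (til v) (cr u (p16 x))) = cr (til v) (cr u (p16 x)) := p16_cr (p10_til v) hy
  have hs : p16 (c⁻¹ • cr (til v) (cr u (p16 x))) = c⁻¹ • cr (til v) (cr u (p16 x)) := by rw [p16_smul, hz]
  have hw : p10 (rf v (rf u (p10 x))) = rf v (rf u (p10 x)) := p10_rf hv (p10_rf hu (p10_p10 x))
  rw [GL0_apply v u c x, GL0_apply]
  obtain ⟨e1, e2, e3⟩ := comps (t := x i0) hw hs
  rw [e1, e2, e3, rf_rf hvv, rf_rf huu, cr_smul_right, cr_smul_right, cr_self h2 hv hy, cr_smul_right,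
    cr_self_til h2 hu hx16, smul_smul, smul_smul, smul_smul]
  have h3 : c⁻¹ * (c⁻¹ * (BB v v / 2 * (BB u u / 2))) = 1 := by
    have h4 : BB v v / 2 * (BB u u / 2) = c * c := by
      field_simp
      linear_combination -hcc
    rw [h4]
    field_simp
  have h5 : c⁻¹ * (c⁻¹ * (BB v v / 2)) * (BB u u / 2) = 1 := by rw [← h3]; ring
  first
    | rw [h5, one_smul]
    | (rw [show c⁻¹ * c⁻¹ * (BB v v / 2) * (BB u u / 2) = 1 by rw [← h3]; ring, one_smul])
  exact (decomp x).symm

theorem cubicT_GL0 (h2 : (2 : F) ≠ 0) {u v : I27 → F} (hu : p10 u = u) (hv : p10 v = v) {c : F} (hc : c ≠ 0)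
    (hcc : 4 * (c * c) = BB u u * BB v v) (x : I27 → F) : cubicT (GL0 u v c x) = cubicT x := by
  have hprod : BB u u * BB v v ≠ 0 := by
    rw [← hcc, show (4 : F) = 2 * 2 by norm_num]
    exact mul_ne_zero (mul_ne_zero h2 h2) (mul_ne_zero hc hc)
  have huu := left_ne_zero_of_mul hprod
  have hvv := right_ne_zero_of_mul hprod
  have hx16 := p16_p16 x
  have hy : p16 (cr v (p16 x)) = cr v (p16 x) := p16_cr hv hx16
  have hz : p16 (cr (til u) (cr v (p16 x))) = cr (til u) (cr v (p16 x)) := p16_cr (p10_til u) hy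
  have hs : p16 (c⁻¹ • cr (til u) (cr v (p16 x))) = c⁻¹ • cr (til u) (cr v (p16 x)) := by rw [p16_smul, hz]
  have hw : p10 (rf u (rf v (p10 x))) = rf u (rf v (p10 x)) := p10_rf hu (p10_rf hv (p10_p10 x))
  apply mul_left_cancel₀ h2
  rw [two_cubicT, two_cubicT, GL0_apply]
  obtain ⟨e1, e2, e3⟩ := comps (t := x i0) hw hs
  rw [← BB_p10 (x i0 • e F i0 + rf u (rf v (p10 x)) + c⁻¹ • cr (til u) (cr v (p16 x))), e1, e2, e3, BB_rf huu,
    BB_rf hvv, BB_p10, T3_smul_right, T3_symm, T3_smul_right, T3_symm, T3_lift h2 hu hv (p10_p10 x) hx16 huu hvv]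
  have h4 : BB u u / 2 * (BB v v / 2) = c * c := by
    field_simp
    linear_combination -hcc
  rw [h4]
  field_simp

/-- an invertible linear map as an element of `GL` -/
noncomputable def toGL (f g : (I27 → F) →ₗ[F] (I27 → F)) (h1 : ∀ x, f (g x) = x) (h2 : ∀ x, g (f x) = x) : GL I27 F where
  val := LinearMap.toMatrix' f
  inv := LinearMap.toMatrix' g
  val_inv := by
    rw [← LinearMap.toMatrix'_comp, show f ∘ₗ g = LinearMap.id from LinearMap.ext h1, LinearMap.toMatrix'_id]
  inv_val := by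
    rw [← LinearMap.toMatrix'_comp, show g ∘ₗ f = LinearMap.id from LinearMap.ext h2, LinearMap.toMatrix'_id]

theorem toGL_mulVec (f g : (I27 → F) →ₗ[F] (I27 → F)) (h1 : ∀ x, f (g x) = x) (h2 : ∀ x, g (f x) = x) (x : I27 → F) :
    ((toGL f g h1 h2 : GL I27 F) : Matrix I27 I27 F) *ᵥ x = f x := by
  show LinearMap.toMatrix' f *ᵥ x = f x
  rw [← Matrix.toLin'_apply, Matrix.toLin'_toMatrix']

/-- **The lift of a product of two reflections.** -/
theorem exists_lift (h2 : (2 : F) ≠ 0) {u v : I27 → F} (hu : p10 u = u) (hv : p10 v = v) {c : F} (hc : c ≠ 0)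
    (hcc : 4 * (c * c) = BB u u * BB v v) : ∃ g ∈ E6univ F, ∀ x, (g : Matrix I27 I27 F) *ᵥ x =
      x i0 • e F i0 + rf u (rf v (p10 x)) + c⁻¹ • cr (til u) (cr v (p16 x)) := by
  refine ⟨toGL (GL0 u v c) (GL0 v u c) (GL0_comp h2 hu hv hc hcc)
    (GL0_comp h2 hv hu hc (by rw [hcc, mul_comm])), ?_, fun x => ?_⟩
  · rw [mem_E6univ_iff]
    intro x
    rw [toGL_mulVec, cubicT_GL0 h2 hu hv hc hcc]
  · rw [toGL_mulVec, GL0_apply]

/-! ### the involution -/

/-- `1` on the parts of dimension 1 and 10, `-1` on the part of dimension 16 -/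
def zL (F : Type*) [Field F] : (I27 → F) →ₗ[F] (I27 → F) where
  toFun x := fun i => if ty i = 1 then - x i else x i
  map_add' x y := by
    funext i
    simp only [Pi.add_apply]
    split_ifs
    · rw [neg_add]
    · rfl
  map_smul' a x := by
    funext i
    simp only [Pi.smul_apply, smul_eq_mul, RingHom.id_apply]
    split_ifs
    · rw [mul_neg]
    · rfl

theorem zL_apply (x : I27 → F) : zL F x = x - (2 : F) • p16 x := by
  funext i
  show (if ty i = 1 then - x i else x i) = x i - 2 * p16 x i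
  simp only [p16]
  split_ifs
  · ring
  · ring

theorem zL_zL (x : I27 → F) : zL F (zL F x) = x := by
  funext i
  show (if ty i = 1 then - (if ty i = 1 then - x i else x i) else (if ty i = 1 then - x i else x i)) = x i
  split_ifs
  · rw [neg_neg]
  · rfl

/-- the involution -/
noncomputable def z0 (F : Type*) [Field F] : GL I27 F := toGL (zL F) (zL F) zL_zL zL_zL

theorem z0_mulVec (x : I27 → F) : ((z0 F : GL I27 F) : Matrix I27 I27 F) *ᵥ x = x - (2 : F) • p16 x := by
  unfold z0
  rw [toGL_mulVec, zL_apply]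

theorem z0_mem (h2 : (2 : F) ≠ 0) : z0 F ∈ E6univ F := by
  rw [mem_E6univ_iff]
  intro x
  rw [z0_mulVec]
  apply mul_left_cancel₀ h2
  rw [two_cubicT, two_cubicT]
  have h1 : x - (2 : F) • p16 x = x i0 • e F i0 + p10 x + (-1 : F) • p16 x := by
    conv_lhs => rw [decomp x]
    rw [p16_add, p16_add, p16_p16, p16_smul, p16_e, ty_i0, if_neg (by norm_num), smul_zero, zero_add]
    have h3 : p16 (p10 x) = 0 := by
      funext i; simp only [p10, p16]
      split_ifs with a b
      · omega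
      · rfl
      · rfl
    rw [h3, zero_add]
    have : (-1 : F) • p16 x = p16 x - (2 : F) • p16 x := by
      rw [← one_smul F (p16 x), smul_smul, smul_smul, ← sub_smul]; congr 1; ring
    rw [this]
    abel
  obtain ⟨e1, e2, e3⟩ := comps (t := x i0) (p10_p10 x) (s := (-1 : F) • p16 x) (by rw [p16_smul, p16_p16])
  rw [h1, ← BB_p10 (x i0 • e F i0 + p10 x + (-1 : F) • p16 x), e1, e2, e3, BB_p10, T3_smul_right, T3_symm,
    T3_smul_right, T3_symm]
  ring

end Cfsg.Agent.H512.DFive
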